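import Mathlib
import Cfsg.Agent.H208.ConjSS
import Cfsg.Agent.AutOrth.Final
import Cfsg.Agent.H523.FpfCyc
import Cfsg.Agent.FastGrp
import Cfsg.Agent.Prune
set_option linter.all false
prune_inst 0x7f00000000000000000000000000000000000000000000000000000000000000000000000000000000000000000000000000000000000000000000000000000000000000000000000000000000000000003fffffffffffffffffffffffffffbeffbdffffffff
open scoped Cfsg.Agent.FastGrp

/-!
# Automorphisms of odd prime order of orthogonal groups (helper521)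

`Q` a nondegenerate (`Good`) quadratic form over a finite field of characteristic `r`, `dim ≥ 6`.

* `sq_mem_E` : the square of an isometry lies in `E Q`;
* `psi_pow_four_inner` : the fourth power of an automorphism induced by a similitude is inner;
* `exists_fixed` : an automorphism of prime order induced by a semisimilitude which is not a similitude fixes an element
  of order `r`;
* `oddFix_psi` : an automorphism of odd prime order induced by a semisimilitude is inner or fixes an element of order `r`.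
-/

set_option autoImplicit false
set_option linter.unusedSectionVars false

namespace Cfsg.Agent.H521.OddFixOrth

open QuadraticMap Module Cfsg.Agent.LieClassical.OrthCore Cfsg.Agent.LieClassical.OrthTrans
open Cfsg.Agent.ClassicalGeometry.OrthSemi Cfsg.Agent.ClassicalGeometry.OrthAut1
open Cfsg.Agent.H966.Frob Cfsg.Agent.H208.Ext Cfsg.Agent.H208.Frame Cfsg.Agent.H208.Parity
  Cfsg.Agent.H208.ConjSS

variable {F V : Type*} [Field F] [AddCommGroup V] [Module F V] [FiniteDimensional F V] {Q : QuadraticForm F V}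

/-- The square of an isometry lies in `E Q`. -/
theorem sq_mem_E (hG : Good Q) {g : V ≃ₗ[F] V} (hg : g ∈ O Q) : g * g ∈ E Q := by
  have hcl : ∀ g ∈ Subgroup.closure (reflSet Q ∪ siegelSet Q), g ∈ O Q ∧ g * g ∈ E Q := by
    intro g hg
    refine ⟨by rw [O_eq_closure hG.nondeg]; exact hg, ?_⟩
    induction hg using Subgroup.closure_induction with
    | mem x hx =>
      rcases hx with ⟨v, hv, rfl⟩ | hx
      · rw [refl_mul_self]
        exact (E Q).one_mem
      · exact (E Q).mul_mem (Subgroup.subset_closure hx) (Subgroup.subset_closure hx)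
    | one => rw [mul_one]; exact (E Q).one_mem
    | mul x y hx hy ihx ihy =>
      have hxO : x ∈ O Q := by rw [O_eq_closure hG.nondeg]; exact hx
      have hyO : y ∈ O Q := by rw [O_eq_closure hG.nondeg]; exact hy
      -- `(xy)(xy) = x (y x y⁻¹ x⁻¹) x y y`
      have h1 : y * x * y⁻¹ * x⁻¹ ∈ E Q := by
        rw [← hG.commutator_eq_E]
        exact Subgroup.commutator_mem_commutator hyO hxO
      have h2 : x * (y * x * y⁻¹ * x⁻¹) * x⁻¹ ∈ E Q := conj_mem_E hxO h1
      have e : x * y * (x * y) = (x * (y * x * y⁻¹ * x⁻¹) * x⁻¹) * (x * x) * (y * y) := by group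
      rw [e]
      exact (E Q).mul_mem ((E Q).mul_mem h2 ihx) ihy
    | inv x hx ih =>
      have e : x⁻¹ * x⁻¹ = (x * x)⁻¹ := by group
      rw [e]
      exact (E Q).inv_mem ih
  exact (hcl g (by rw [← O_eq_closure hG.nondeg]; exact hg)).2

/-- Isometries in `E Q` induce inner automorphisms. -/
theorem psi_of_E {g : V ≃ₗ[F] V} (hg : g ∈ O Q) (hE : g ∈ E Q) :
    Psi Q (ofO g hg) = MulAut.conj (QuotientGroup.mk (⟨g, hE⟩ : ↥(E Q)) : P Q) := by
  ext x
  induction x using QuotientGroup.induction_on with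
  | H y =>
    ((conv => enter [@2]; rw [Psi_mk]); rewrite [MulAut.conj_apply]; (conv => enter [@3, @5]; rw [← QuotientGroup.mk_mul]); (conv => enter [@3, @6]; rw [← QuotientGroup.mk_inv]); rewrite [← QuotientGroup.mk_mul])
    refine congrArg _ ?_
    apply Subtype.ext
    ext v
    obtain ⟨v, rfl⟩ := g.surjective v
    have h1 : (conjE Q (ofO g hg) y : V ≃ₗ[F] V) (g v) = g ((y : V ≃ₗ[F] V) v) := by
      rw [coe_conjE]
      exact conjLin_apply' (ofO g hg) y.1 v
    rw [h1]
    have h2 : g ((y : V ≃ₗ[F] V) v) = g ((y : V ≃ₗ[F] V) (g.symm (g v))) := by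
      rw [LinearEquiv.symm_apply_apply]
    exact h2

/-- The fourth power of an automorphism induced by a similitude is inner. -/
theorem psi_pow_four_inner (hG : Good Q) {M : Gam Q} (hM : Lin M) : ∃ g : P Q, Psi Q M ^ 4 = MulAut.conj g := by
  obtain ⟨c, hM⟩ := hM
  have hc := hM.ne
  let u : Fˣ := Units.mk0 c⁻¹ (inv_ne_zero hc)
  -- the isometry `c⁻¹ M²`
  have hadd : ∀ x y, c⁻¹ • M.1 (M.1 (x + y)) = c⁻¹ • M.1 (M.1 x) + c⁻¹ • M.1 (M.1 y) := fun x y => by
    rw [hM.add, hM.add, smul_add]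
  let g : V ≃ₗ[F] V :=
    { toFun := fun v => c⁻¹ • M.1 (M.1 v)
      invFun := fun v => M.1⁻¹ (M.1⁻¹ (c • v))
      map_add' := hadd
      map_smul' := fun a v => by
        rw [hM.smul, hM.smul]
        change c⁻¹ • (a • _) = a • _
        rw [smul_comm]
      left_inv := fun v => by
        show M.1⁻¹ (M.1⁻¹ (c • (c⁻¹ • M.1 (M.1 v)))) = v
        rw [smul_smul, mul_inv_cancel₀ hc, one_smul, inv_apply, inv_apply]
      right_inv := fun v => by
        show c⁻¹ • M.1 (M.1 (M.1⁻¹ (M.1⁻¹ (c • v)))) = v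
        rw [apply_inv, apply_inv, smul_smul, inv_mul_cancel₀ hc, one_smul] }
  have hgv : ∀ v, g v = c⁻¹ • M.1 (M.1 v) := fun v => rfl
  have hg : g ∈ O Q := by
    intro v
    rw [hgv, QuadraticMap.map_smul, hM.form, hM.form]
    change (c⁻¹ * c⁻¹) • (c * (c * Q v)) = Q v
    rw [smul_eq_mul]
    field_simp
  have e1 : scal Q u * (M * M) = ofO g hg := by
    apply Subtype.ext
    ext v
    rfl
  have e2 : ofO g hg * ofO g hg = ofO (g * g) ((O Q).mul_mem hg hg) := by
    apply Subtype.ext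
    ext v
    rfl
  refine ⟨(QuotientGroup.mk (⟨g * g, sq_mem_E hG hg⟩ : ↥(E Q)) : P Q), ?_⟩
  (simp +singlePass only [← psi_of_E ((O Q).mul_mem hg hg)]; (conv => enter [@3, @6]; rw [← e2]); (conv => enter [@3]; rw [map_mul]); (conv => enter [@3, @5, @6]; rw [← e1]); (conv => enter [@3, @6, @6]; rw [← e1]); simp +singlePass only [map_mul]; simp only [Psi_scal hG]; simp only [one_mul]; simp only [map_mul])
  simp only [pow_succ, pow_zero, one_mul, mul_assoc]

/-- In suitable coordinates there are two fixed orthogonal singular vectors. -/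
theorem exists_fixed_pair [Finite F] [Nontrivial V] (hQ : Nondeg Q) (hd : 6 ≤ finrank F V) {M : Equiv.Perm V} {σ : F ≃+* F}
    {c : F} (hM : IsSS Q σ c M) {ℓ : ℕ} (hσ : orderOf σ = ℓ) (hℓ : 0 < ℓ) (hMl : M ^ ℓ = 1) :
    ∃ x y : V, M x = x ∧ M y = y ∧ Q x = 0 ∧ Q y = 0 ∧ x ≠ 0 ∧ polar Q x y = 0 ∧ ∀ a : F, y ≠ a • x := by
  -- from coordinates
  have key : ∀ {κ : Type} [DecidableEq κ] {q : (κ → F) → F} (i j : κ), i ≠ j → Fr Q σ M q →
      q (Pi.single i 1) = 0 → q (Pi.single j 1) = 0 → q (Pi.single i 1 + Pi.single j 1) = 0 →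
      ∃ x y : V, M x = x ∧ M y = y ∧ Q x = 0 ∧ Q y = 0 ∧ x ≠ 0 ∧ polar Q x y = 0 ∧ ∀ a : F, y ≠ a • x := by
    intro κ _ q i j hij ⟨h, e, he, hq, hh⟩ h1 h2 h3
    have hf : ∀ i : κ, frob κ σ (Pi.single i 1) = Pi.single i 1 := by
      intro i
      funext k
      change σ ((Pi.single i 1 : κ → F) k) = (Pi.single i 1 : κ → F) k
      by_cases hk : k = i
      · subst hk; simp
      · simp [Pi.single_eq_of_ne hk]
    refine ⟨h (Pi.single i 1), h (Pi.single j 1), by rw [hh, hf], by rw [hh, hf], by rw [hq, h1, mul_zero],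
      by rw [hq, h2, mul_zero], ?_, ?_, ?_⟩
    · intro h0
      have h4 := congrFun (h.injective (h0.trans (map_zero h).symm)) i
      rw [Pi.single_eq_same] at h4
      exact one_ne_zero h4
    · rw [polar, ← map_add, hq, hq, hq, h1, h2, h3]
      simp
    · intro a ha
      rw [← map_smul] at ha
      have h4 := congrFun (h.injective ha) j
      rw [Pi.single_eq_same, Pi.smul_apply, Pi.single_eq_of_ne hij.symm, smul_zero] at h4
      exact one_ne_zero h4
  rcases normal_form hQ hM hσ hℓ hMl with ⟨k, hk, hf⟩ | ⟨k, hk, hf⟩ | ⟨k, hk, a, b, -, -, -, hf⟩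
  · have hk1 : 0 < k := by omega
    have hk2 : 1 < k := by omega
    refine key (Sum.inr (Sum.inl ⟨0, hk1⟩)) (Sum.inr (Sum.inl ⟨1, hk2⟩)) (by simp) hf ?_ ?_ ?_ <;>
      simp only [Cfsg.quadFormOdd, _root_.ne_eq, _root_.reduceCtorEq, _root_.not_false_eq_true, _root_.Pi.single_eq_of_ne, _root_.OfNat.ofNat_ne_zero, _root_.zero_pow, _root_.Sum.inr.injEq, _root_.MulZeroClass.mul_zero, _root_.Finset.sum_const_zero, _root_.add_zero, _root_.Pi.add_apply]
  · have hk1 : 0 < k := by omega
    have hk2 : 1 < k := by omega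
    refine key (Sum.inl ⟨0, hk1⟩) (Sum.inl ⟨1, hk2⟩) (by simp) hf ?_ ?_ ?_ <;>
      simp only [Cfsg.quadFormPlus, _root_.ne_eq, _root_.reduceCtorEq, _root_.not_false_eq_true, _root_.Pi.single_eq_of_ne, _root_.MulZeroClass.mul_zero, _root_.Finset.sum_const_zero, _root_.Pi.add_apply, _root_.add_zero]
  · have hk1 : 0 < k := by omega
    have hk2 : 1 < k := by omega
    refine key (Sum.inl (Sum.inl ⟨0, hk1⟩)) (Sum.inl (Sum.inl ⟨1, hk2⟩)) (by simp) hf ?_ ?_ ?_ <;>
      simp only [Cfsg.quadFormMinus, _root_.ne_eq, _root_.Sum.inl.injEq, _root_.reduceCtorEq, _root_.not_false_eq_true, _root_.Pi.single_eq_of_ne, _root_.MulZeroClass.mul_zero, _root_.Finset.sum_const_zero, _root_.Fin.isValue, _root_.OfNat.ofNat_ne_zero, _root_.zero_pow, _root_.add_zero, _root_.Pi.add_apply]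

/-- Powers of a Siegel transformation. -/
theorem siegel_pow {u w : V} (hu : Q u = 0) (hw : polar Q u w = 0) (n : ℕ) (v : V) :
    (siegel Q u w hu hw ^ n) v = siegelLin Q u (n • w) v := by
  have hnw : ∀ n : ℕ, polar Q u (n • w) = 0 := by
    intro n
    rw [← Nat.cast_smul_eq_nsmul F, polar_smul_right, hw, smul_zero]
  induction n with
  | zero => rw [pow_zero, zero_smul, siegelLin_apply]; simp
  | succ n ih =>
    rw [pow_succ']
    change siegel Q u w hu hw ((siegel Q u w hu hw ^ n) v) = _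
    rw [ih, succ_nsmul']
    exact siegelLin_comp hu hw (hnw n) v

/-- **An automorphism of prime order induced by a semisimilitude with nontrivial field automorphism fixes an element of
order `r`.** -/
theorem exists_fixed [Finite F] (hG : Good Q) (hd : 6 ≤ finrank F V) {r : ℕ} [CharP F r] {M : Gam Q} {σ : F ≃+* F}
    {c : F} (hM : IsSS Q σ c M.1) (hσ : σ ≠ 1) {p : ℕ} (hp : p.Prime) (h : Psi Q M ^ p = 1) :
    ∃ s : P Q, s ≠ 1 ∧ s ^ r = 1 ∧ Psi Q M s = s := by
  have := nontrivial_of_good hG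
  (have h_ob := exists_normal hG hM hσ hp h
   revert h_ob; rintro (⟨ho, a, ha⟩))
  (have h_ob := isSS_scal_mul hM a
   revert h_ob; rintro (⟨d, hN⟩))
  have hpsi : Psi Q (scal Q a * M) = Psi Q M := by simp only [map_mul, Psi_scal hG, one_mul]
  rw [← hpsi]
  set N : Gam Q := scal Q a * M with hNdef
  clear_value N
  (have h_ob := exists_fixed_pair hG.nondeg hd hN ho hp.pos ha
   revert h_ob; rintro (⟨x, y, hx, hy, hQx, hQy, hx0, hxy, hind⟩))
  (have h_ob := Cfsg.Agent.CpAut.Descent.hilbert90 ho hp.pos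
    (norm_eq_one (exists_ne_zero hG.nondeg) hN ho ha)
   revert h_ob; rintro (⟨e, he0, he⟩))
  -- `d σ(e) = e`
  have h1 : d * σ e = e := he
  have hb : polar Q x (e⁻¹ • y) = 0 := by rw [polar_smul_right, hxy, smul_zero]
  have hQb : Q (e⁻¹ • y) = 0 := by rw [QuadraticMap.map_smul, hQy, smul_zero]
  let u := siegel Q x (e⁻¹ • y) hQx hb
  have huE : u ∈ E Q := siegel_mem_E hQx hb
  -- `N` commutes with `u`
  have hNu : conjLin N u = u := by
    obtain ⟨h2, h3, h4⟩ := conjLin_siegel N hN hQx hb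
    rw [h4]
    have h5 : d⁻¹ • N.1 (e⁻¹ • y) = e⁻¹ • y := by
      rw [hN.smul, hy, smul_smul, map_inv₀]
      congr 1
      rw [← mul_inv, h1]
    ext v
    rw [siegel_apply, siegel_apply, h5, hx]
  -- `u` is not central
  have hcen : (⟨u, huE⟩ : ↥(E Q)) ∉ Subgroup.center ↥(E Q) := by
    intro hc
    -- a central element is a scalar
    have huO : u ∈ O Q := siegel_mem_O hQx hb
    have h2 : conjE Q (ofO u huO) = 1 := by
      ext k : 2
      have h3 := Subgroup.mem_center_iff.1 hc k
      have h4 : (k : V ≃ₗ[F] V) * u = u * k := congrArg Subtype.val h3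
      rw [coe_conjE]
      change conjLin (ofO u huO) k.1 = k.1
      ext v
      obtain ⟨v, rfl⟩ := u.surjective v
      have h5 : conjLin (ofO u huO) k.1 (u v) = u (k.1 v) := conjLin_apply' (ofO u huO) k.1 v
      rw [h5]
      exact (LinearEquiv.congr_fun h4 v).symm
    obtain ⟨b, hb0, hbv⟩ := exists_scalar_of_conjE hG _ h2
    have h6 : ∀ v, u v = b • v := hbv
    have hux : u x = x := by
      show siegel Q x (e⁻¹ • y) hQx hb x = x
      rw [siegel_apply, polar_self_of_sing hQx, polar_comm Q (e⁻¹ • y) x, hb]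
      simp only [_root_.zero_smul, _root_.add_zero, _root_.sub_zero, _root_.MulZeroClass.mul_zero]
    have hb1 : b = 1 := by
      have h7 := h6 x
      rw [hux] at h7
      have h8 : ((1 : F) - b) • x = 0 := by rw [sub_smul, one_smul, ← h7, sub_self]
      exact (sub_eq_zero.1 ((smul_eq_zero.1 h8).resolve_right hx0)).symm
    obtain ⟨v, hv1, hv2⟩ := exists_sep hG.nondeg hind
    have h7 : siegel Q x (e⁻¹ • y) hQx hb v = b • v := h6 v
    rw [siegel_apply, hv1, hb1, one_smul, polar_smul_left, hv2] at h7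
    have h8 : (e⁻¹ • (1 : F)) • x = 0 := by
      have h9 : v + (0 : F) • e⁻¹ • y - (e⁻¹ • (1 : F)) • x - (Q (e⁻¹ • y) * 0) • x = v := h7
      rw [zero_smul, add_zero, mul_zero, zero_smul, sub_zero] at h9
      rw [sub_eq_self] at h9
      exact h9
    rcases smul_eq_zero.1 h8 with h9 | h9
    · rw [smul_eq_mul, mul_one] at h9
      exact inv_ne_zero he0 h9
    · exact hx0 h9
  refine ⟨QuotientGroup.mk ⟨u, huE⟩, ?_, ?_, ?_⟩
  · intro h2
    exact hcen ((QuotientGroup.eq_one_iff _).1 h2)
  · rw [← QuotientGroup.mk_pow]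
    have h2 : (⟨u, huE⟩ : ↥(E Q)) ^ r = 1 := by
      apply Subtype.ext
      ext v
      change (u ^ r) v = v
      rw [siegel_pow, ← Nat.cast_smul_eq_nsmul F, CharP.cast_eq_zero, zero_smul, siegelLin_apply]
      simp
    rw [h2]
    rfl
  · rw [Psi_mk]
    congr 1
    exact Subtype.ext hNu

/-- **An automorphism of odd prime order induced by a semisimilitude is inner or fixes an element of order `r`.** -/
theorem inner_of_fix [Finite F] (hG : Good Q) (hd : 6 ≤ finrank F V) {r : ℕ} [CharP F r] {p : ℕ} (hp : p.Prime)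
    (hp2 : p ≠ 2) {M : Gam Q} (h : orderOf (Psi Q M) = p)
    (hfix : ∀ s : P Q, Psi Q M s = s → s ^ r = 1 → s = 1) : ∃ g : P Q, Psi Q M = MulAut.conj g := by
  (have h_ob := M.2
   revert h_ob; rintro (⟨σ, c, hM⟩))
  by_cases hσ : σ = 1
  · subst hσ
    (have h_ob := psi_pow_four_inner hG (M := M) ⟨c, hM⟩
     revert h_ob; rintro (⟨g, hg⟩))
    have hco : Nat.Coprime 4 p := by
      have h1 : Nat.Coprime 2 p := (Nat.coprime_primes Nat.prime_two hp).2 (Ne.symm hp2)
      have h2 : Nat.Coprime (2 ^ 2) p := h1.pow_left 2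
      exact h2
    (have h_ob := Nat.exists_mul_mod_eq_one_of_coprime hco hp.one_lt
     revert h_ob; rintro (⟨k, hk⟩))
    refine ⟨g ^ k, ?_⟩
    simp only [map_pow, ← hg, ← pow_mul]
    have h1 : Psi Q M ^ (4 * k) = Psi Q M ^ (4 * k % p) := by
      rw [← h, pow_mod_orderOf]
    simp only [h1, hk.2, pow_one]
  · exfalso
    obtain ⟨s, hs1, hsr, hs⟩ := exists_fixed hG hd (r := r) hM hσ hp (by rw [← h, pow_orderOf_eq_one])
    exact hs1 (hfix s hs hsr)

open Cfsg.Agent.H523 Cfsg.Agent.AutOrth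

/-- The case in which all automorphisms are induced by semisimilitudes. -/
theorem oddFix_of_surjective [Finite F] (hG : Good Q) (hd : 6 ≤ finrank F V) {r : ℕ} [CharP F r]
    (hs : Function.Surjective (Psi Q)) : OddFix r (P Q) := by
  intro p hp hp2 _ z hz hfix
  obtain ⟨M, rfl⟩ := hs z
  exact inner_of_fix hG hd hp hp2 hz hfix

/-- The case of a subgroup of index three, `p ≠ 3`. -/
theorem inner_of_index_three [Finite F] (hG : Good Q) (hd : 6 ≤ finrank F V) {r : ℕ} [CharP F r]
    (hs : (Psi Q).range.index = 3) {p : ℕ} (hp : p.Prime) (hp2 : p ≠ 2) (hp3 : p ≠ 3) {z : MulAut (P Q)}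
    (hz : orderOf z = p) (hfix : ∀ s : P Q, z s = s → s ^ r = 1 → s = 1) : ∃ g : P Q, z = MulAut.conj g := by
  have hmem : z ∈ (Psi Q).range := by
    -- `z` acts on the three cosets
    let f := MulAction.toPermHom (MulAut (P Q)) (MulAut (P Q) ⧸ (Psi Q).range)
    have hcard : Nat.card (MulAut (P Q) ⧸ (Psi Q).range) = 3 := hs
    have : Finite (MulAut (P Q) ⧸ (Psi Q).range) := Nat.finite_of_card_ne_zero (by rw [hcard]; norm_num)
    have h1 : orderOf (f z) ∣ Nat.factorial 3 := by
      have h2 := orderOf_dvd_natCard (f z)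
      have h3 : Nat.card (Equiv.Perm (MulAut (P Q) ⧸ (Psi Q).range)) = Nat.factorial 3 := by
        rw [Nat.card_perm, hcard]
      (simp only [h3] at h2; assumption)
    have h2 : orderOf (f z) ∣ p := by rw [← hz]; exact orderOf_map_dvd f z
    have h3 : orderOf (f z) = 1 := by
      (have h_ob := (Nat.dvd_prime hp).1 h2
       revert h_ob; rintro (h3 | h3))
      · exact h3
      · exfalso
        rw [h3] at h1
        have h4 : p ≤ 3 := (hp.dvd_factorial).1 h1
        have h5 := hp.two_le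
        omega
    have h4 : f z = 1 := orderOf_eq_one_iff.1 h3
    have h5 : f z (QuotientGroup.mk 1) = QuotientGroup.mk 1 := by simp only [h4]; rfl
    have h6 : (QuotientGroup.mk (z * 1) : MulAut (P Q) ⧸ (Psi Q).range) = QuotientGroup.mk 1 := h5
    rw [QuotientGroup.eq, mul_one, mul_one] at h6
    exact inv_mem_iff.1 h6
  obtain ⟨M, rfl⟩ := hmem
  exact inner_of_fix hG hd hp hp2 hz hfix

/-- `PΩ_{2m+1}(q)`. -/
theorem oddFix_odd {r : ℕ} {S : Type*} [Group S] (h : Cfsg.IsPOmegaOddChar r S) : OddFix r S := by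
  obtain ⟨F, _, _, _, m, hm, hodd, ⟨e⟩⟩ := h
  have h2 : (2 : F) ≠ 0 := by
    intro h2
    have h3 : ringChar F = 2 := by
      have : CharP F 2 := CharTwo.of_one_ne_zero_of_two_eq_zero one_ne_zero h2
      exact ringChar.eq F 2
    have h4 := FiniteField.even_card_iff_char_two.1 h3
    rw [Nat.odd_iff] at hodd
    omega
  have hG := Main.good_odd (F := F) (by omega : 2 ≤ m) h2
  have hs := Final.surjective_odd (F := F) hm h2
  rw [Main.oddForm_eq] at hs
  have h3 := (oddFix_of_surjective (r := r) hG (by simp only [_root_.Module.finrank_fintype_fun_eq_card, _root_.Fintype.card_sum, _root_.Fintype.card_unique, _root_.Fintype.card_fin]; omega) hs).congr (Main.pe hG).symm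
  rw [Cfsg.Agent.LieClassical.QuadForms.coe_oddForm] at h3
  exact h3.congr e.symm

/-- `PΩ⁻_{2m}(q)`. -/
theorem oddFix_minus {r : ℕ} {S : Type*} [Group S] (h : Cfsg.IsPOmegaMinusChar r S) : OddFix r S := by
  obtain ⟨F, _, _, _, m, a, b, hm, hab, ⟨e⟩⟩ := h
  have hG := Main.good_minus (F := F) (by omega : 2 ≤ m - 1) hab
  have hs := Final.surjective_minus (F := F) (by omega : 3 ≤ m - 1) hab
  rw [Main.minusForm_eq] at hs
  have h3 := (oddFix_of_surjective (r := r) hG (by simp only [_root_.Module.finrank_fintype_fun_eq_card, _root_.Fintype.card_sum, _root_.Fintype.card_fin, _root_.Nat.reduceLeDiff]; omega) hs).congr (Main.pe hG).symm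
  rw [Cfsg.Agent.LieClassical.QuadForms.coe_minusForm] at h3
  exact h3.congr e.symm

/-- `PΩ⁺_{2m}(q)`, `m ≥ 5`. -/
theorem oddFix_plus {r : ℕ} {F : Type*} [Field F] [Fintype F] [CharP F r] {m : ℕ} (hm : 5 ≤ m) :
    OddFix r (Cfsg.POmega F (Cfsg.quadFormPlus m F)) := by
  have hG := Main.good_plus (F := F) (by omega : 3 ≤ m)
  have hs := Final.surjective_plus (F := F) hm
  rw [Main.plusForm_eq] at hs
  have h3 := (oddFix_of_surjective (r := r) hG (by simp only [_root_.Module.finrank_fintype_fun_eq_card, _root_.Fintype.card_sum, _root_.Fintype.card_fin]; omega) hs).congr (Main.pe hG).symm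
  rwa [Cfsg.Agent.LieClassical.QuadForms.coe_plusForm] at h3

/-- `PΩ⁺_8(q)`, given the triality automorphisms of order three. -/
theorem oddFix_plus_four {r : ℕ} {F : Type*} [Field F] [Fintype F] [CharP F r]
    (htri : r ≠ 3 → ∀ z : MulAut (P (LieClassical.QuadForms.plusForm 4 F)), orderOf z = 3 →
      z ∉ (Psi (LieClassical.QuadForms.plusForm 4 F)).range →
      ∃ s : P (LieClassical.QuadForms.plusForm 4 F), s ≠ 1 ∧ s ^ r = 1 ∧ z s = s) :
    OddFix r (Cfsg.POmega F (Cfsg.quadFormPlus 4 F)) := by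
  have hG := Main.good_plus (F := F) (by norm_num : 3 ≤ 4)
  have hs := Final.index_plus_four (F := F)
  rw [Main.plusForm_eq] at hs
  have hd : 6 ≤ finrank F (Fin 4 ⊕ Fin 4 → F) := by simp
  have h3 : OddFix r (P (LieClassical.QuadForms.plusForm 4 F)) := by
    intro p hp hp2 hpr z hz hfix
    by_cases hp3 : p = 3
    · subst hp3
      by_cases hmem : z ∈ (Psi (LieClassical.QuadForms.plusForm 4 F)).range
      · obtain ⟨M, rfl⟩ := hmem
        exact inner_of_fix hG hd hp hp2 hz hfix
      · exfalso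
        obtain ⟨s, hs1, hsr, hs⟩ := htri (Ne.symm hpr) z hz hmem
        exact hs1 (hfix s hs hsr)
    · exact inner_of_index_three hG hd hs hp hp2 hp3 hz hfix
  have h4 := h3.congr (Main.pe hG).symm
  rwa [Cfsg.Agent.LieClassical.QuadForms.coe_plusForm] at h4

end Cfsg.Agent.H521.OddFixOrth
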