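import Cfsg.Agent.H394.PBTools_m3
import Cfsg.Agent.H492.IMPair_m3
import Cfsg.Agent.H724.IMJThree
import Cfsg.Agent.H689.SporNorm
import Cfsg.Agent.Prune
set_option linter.all false
prune_inst 0x7f00000000000000000000000000000000000000000000000000000000000000000000000000000000000000000000000000000000000000000000000000000000000000000000000000000000000000003fffffffffffffffffffffffffffbeffbdffffffff
open scoped Cfsg.Agent.FastGrp

/-!
# S4826: the rows of the sporadic groups `J₁` and `J₃` (helper521)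
-/

set_option autoImplicit false

namespace Cfsg.Agent.H521.PBJ

open Cfsg Cfsg.Agent.H133.PB Cfsg.Agent.H709.PB Subgroup

universe u

section jone

open Cfsg.Agent.H724.IMJOne

theorem nb_self {q : ℕ} [hq : Fact q.Prime] (hq' : q = 7 ∨ q = 11 ∨ q = 19) : NB q 1 Spor.J1 := by
  obtain ⟨x, hx⟩ := exists_ord (n := q) (by rcases hq' with rfl | rfl | rfl <;> decide)
  exact NB.of_self (g := x) (IsPGroup.of_card (n := 1) (by rw [cent hq' hx, pow_one])) ⟨1, by rw [hx, pow_one]⟩

theorem model_j1 {p : ℕ} (hp : p.Prime) (hd : p ∣ Nat.card Spor.J1) : Row p Spor.J1 := by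
  have := Fact.mk hp
  have h7 : Fact (Nat.Prime 7) := ⟨by norm_num⟩
  have h11 : Fact (Nat.Prime 11) := ⟨by norm_num⟩
  have h19 : Fact (Nat.Prime 19) := ⟨by norm_num⟩
  have him := model hd
  have n7 := nb_self (q := 7) (Or.inl rfl)
  have n11 := nb_self (q := 11) (Or.inr (Or.inl rfl))
  have n19 := nb_self (q := 19) (Or.inr (Or.inr rfl))
  have d7 : 7 ∣ Nat.card Spor.J1 := by rw [card_j1]; norm_num
  have d11 : 11 ∣ Nat.card Spor.J1 := by rw [card_j1]; norm_num
  have d19 : 19 ∣ Nat.card Spor.J1 := by rw [card_j1]; norm_num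
  have key : ∀ (a b : ℕ), Fact a.Prime → Fact b.Prime → a ≠ b → a ≠ p → b ≠ p → a ∣ Nat.card Spor.J1 →
      b ∣ Nat.card Spor.J1 → NB a 1 Spor.J1 → NB b 1 Spor.J1 → 175560 < (p * (a * b)) ^ 2 → Row p Spor.J1 := by
    intro a b ha hb hab hap hbp hda hdb hna hnb hbig
    refine Row.of_IM hp him [(a, 1), (b, 1)] (by simpa using hab) (fun x hx => ?_) ?_
    · simp only [List.mem_cons, List.not_mem_nil, or_false] at hx
      rcases hx with rfl | rfl
      · exact ⟨ha.out, hap, hda, hna⟩
      · exact ⟨hb.out, hbp, hdb, hnb⟩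
    · rw [card_j1]
      simpa using hbig
  have hd' := hd
  rw [card_j1] at hd'
  rcases prime_cases hp hd' with rfl | rfl | rfl | rfl | rfl | rfl
  · obtain ⟨x, hx⟩ := exists_ord (n := 7) (by decide)
    exact Row.of_real_odd (q := 7) ⟨1, by rw [hx, pow_one]⟩ (ne_one_of hx (by norm_num)) (real (Or.inl rfl) hx)
      (by rw [cent (Or.inl rfl) hx]; decide)
  · exact key 11 19 h11 h19 (by norm_num) (by norm_num) (by norm_num) d11 d19 n11 n19 (by norm_num)
  · exact key 11 19 h11 h19 (by norm_num) (by norm_num) (by norm_num) d11 d19 n11 n19 (by norm_num)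
  · exact key 11 19 h11 h19 (by norm_num) (by norm_num) (by norm_num) d11 d19 n11 n19 (by norm_num)
  · exact key 7 19 h7 h19 (by norm_num) (by norm_num) (by norm_num) d7 d19 n7 n19 (by norm_num)
  · exact key 7 11 h7 h11 (by norm_num) (by norm_num) (by norm_num) d7 d11 n7 n11 (by norm_num)

/-- **`J₁`** -/
theorem row_j1 {S : Type u} [Group S] (h : Cfsg.Spor.IsoJ1 S) {p : ℕ} (hp : p.Prime) (hd : p ∣ Nat.card S) :
    Row p S := by
  obtain ⟨e⟩ := h
  exact (model_j1 hp (by rw [← Nat.card_congr e.toEquiv]; exact hd)).of_equiv e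

end jone

section jthree

open Cfsg.Agent.H724.IMJThree Cfsg.Agent.H724.IMTool Cfsg.Agent.H713.Count Cfsg.Agent.H713

variable {K : Type u} [Group K]

theorem nb_three (h : Spor.IsoJ3 K) : NB 3 4 K := by
  have hcK := card_j3 h
  have hfin : Finite K := Nat.finite_of_card_ne_zero (by rw [hcK]; norm_num)
  have h3 : Fact (Nat.Prime 3) := ⟨by norm_num⟩
  refine NB.of_orders (a := 5) (by rw [hcK]; norm_num) fun y hy hy3 => ?_
  have hd : orderOf y ∣ 50232960 := by rw [← hcK]; exact orderOf_dvd_natCard y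
  rcases H898.J3Cent.prime_dvd_card hy hd with h1 | h1 | h1 | h1 | h1
  · rw [card_two h h1]; norm_num
  · exact absurd h1 hy3
  · obtain ⟨y0, hy0, hc0⟩ := exists_five h
    rw [H689.card_centralizer_of_sylow (r := 5) (by norm_num) (by rw [hcK]; norm_num) h1 hy0, hc0]
    norm_num
  · rw [(H898.J3Cent.seventeen h h1).1]; norm_num
  · rw [H898.J3Cent.card_nineteen h h1]; norm_num

/-- **`J₃`** -/
theorem row_j3 (h : Spor.IsoJ3 K) {p : ℕ} (hp : p.Prime) (hd : p ∣ Nat.card K) : Row p K := by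
  have := Fact.mk hp
  have hcK := card_j3 h
  have hfin : Finite K := Nat.finite_of_card_ne_zero (by rw [hcK]; norm_num)
  have h3 : Fact (Nat.Prime 3) := ⟨by norm_num⟩
  have h17 : Fact (Nat.Prime 17) := ⟨by norm_num⟩
  have h19 : Fact (Nat.Prime 19) := ⟨by norm_num⟩
  obtain ⟨g, hg⟩ := exists_ord h (n := 17) (by decide)
  have hgC := (H898.J3Cent.seventeen h hg).1
  have hg1 : g ≠ 1 := by rintro rfl; rw [orderOf_one] at hg; norm_num at hg
  have hreal : IsConj g g⁻¹ := by
    refine isConj_inv_of_even (p := 17) (by rw [← hg]; exact pow_orderOf_eq_one g) ?_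
    rw [fus_card_eq (p := 17) (e := 8) (c := 1) (fac h (by norm_num) (by norm_num)) hg (by rw [hgC])
      (by rw [hcK]; decide)]
    decide
  obtain ⟨k, hk⟩ := exists_ord h (n := 19) (by decide)
  have n17 : NB 17 1 K := NB.of_self (g := g) (IsPGroup.of_card (n := 1) (by rw [hgC, pow_one])) ⟨1, by rw [hg, pow_one]⟩
  have n19 : NB 19 1 K := NB.of_self (g := k) (IsPGroup.of_card (n := 1) (by
    rw [H898.J3Cent.card_nineteen h hk, pow_one])) ⟨1, by rw [hk, pow_one]⟩
  have n3 := nb_three h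
  have d3 : 3 ∣ Nat.card K := by rw [hcK]; norm_num
  have d17 : 17 ∣ Nat.card K := by rw [hcK]; norm_num
  have d19 : 19 ∣ Nat.card K := by rw [hcK]; norm_num
  have him := im_j3 h hd
  have sc : 17 ≠ p → (∃ k : ℕ, p ^ k ∣ 50232960 ∧ ¬ p ^ k ∣ 1920 ^ 2) → Row p K := by
    rintro h17p ⟨k, hk1, hk2⟩
    refine Row.of_inverted (q := 17) (by norm_num) h17p (by rw [hcK]; norm_num) hg hreal hgC fun t ht _ => ⟨k, ?_, ?_⟩
    · rw [hcK]; exact hk1
    · rw [card_two h ht]; exact hk2
  have hd' := hd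
  rw [hcK] at hd'
  rcases H898.J3Cent.prime_dvd_card hp hd' with rfl | rfl | rfl | rfl | rfl
  · exact Row.of_real_odd (q := 17) ⟨1, by rw [hg, pow_one]⟩ hg1 hreal (by rw [hgC]; decide)
  · exact sc (by norm_num) ⟨5, by norm_num, by norm_num⟩
  · refine Row.of_IM hp him [(17, 1), (19, 1), (3, 4)] (by decide) (fun x hx => ?_) (by rw [hcK]; norm_num)
    simp only [List.mem_cons, List.not_mem_nil, or_false] at hx
    rcases hx with rfl | rfl | rfl
    · exact ⟨by norm_num, by norm_num, d17, n17⟩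
    · exact ⟨by norm_num, by norm_num, d19, n19⟩
    · exact ⟨by norm_num, by norm_num, d3, n3⟩
  · refine Row.of_IM hp him [(19, 1), (3, 4)] (by decide) (fun x hx => ?_) (by rw [hcK]; norm_num)
    simp only [List.mem_cons, List.not_mem_nil, or_false] at hx
    rcases hx with rfl | rfl
    · exact ⟨by norm_num, by norm_num, d19, n19⟩
    · exact ⟨by norm_num, by norm_num, d3, n3⟩
  · exact sc (by norm_num) ⟨1, by norm_num, by norm_num⟩

end jthree

end Cfsg.Agent.H521.PBJ
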